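import Mathlib
import Groth.Prelude.Def_CAlgX

/-!
Derivations and adic formal smoothness of a quotient.
-/

set_option autoImplicit false

open scoped TensorProduct

namespace Groth.Agent.FSQuot14

universe u

variable {A B : Type u} [CommRing A] [CommRing B] [Algebra A B]

/-- Derivations into modules killed by a power of `I` lift along surjections. -/
theorem lift_derivation {I : Ideal B} (hB : CAlgX.IsAdicFormallySmooth A B I)
    {N N' : Type u} [AddCommGroup N] [Module B N] [Module A N] [IsScalarTower A B N]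
    [AddCommGroup N'] [Module B N'] [Module A N'] [IsScalarTower A B N']
    (s : ℕ) (hN : ∀ b ∈ I ^ s, ∀ n : N, b • n = 0) (π : N →ₗ[B] N') (hπ : Function.Surjective π)
    (d' : Derivation A B N') :
    ∃ d : Derivation A B N, ∀ b, π (d b) = d' b := by
  classical
  let i1 : Module Bᵐᵒᵖ N := Module.compHom N ((RingHom.id B).fromOpposite mul_comm)
  have i2 : IsCentralScalar B N := ⟨fun r m => rfl⟩
  have i3 : IsScalarTower A Bᵐᵒᵖ N := ⟨fun a r n => smul_assoc a r.unop n⟩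
  have hN' : ∀ b ∈ I ^ s, ∀ n : N', b • n = 0 := fun b hb n => by
    obtain ⟨n, rfl⟩ := hπ n
    rw [← map_smul, hN b hb, map_zero]
  let P' : Ideal (TrivSqZeroExt B N) :=
    { carrier := {x | TrivSqZeroExt.fst x ∈ I ^ s ∧ π (TrivSqZeroExt.snd x) = 0}
      add_mem' := fun {x y} hx hy => by
        refine ⟨?_, ?_⟩
        · rw [TrivSqZeroExt.fst_add]; exact add_mem hx.1 hy.1
        · rw [TrivSqZeroExt.snd_add, map_add, hx.2, hy.2, add_zero]
      zero_mem' := by simp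
      smul_mem' := fun c x hx => by
        refine ⟨?_, ?_⟩
        · rw [smul_eq_mul, TrivSqZeroExt.fst_mul]; exact Ideal.mul_mem_left _ _ hx.1
        · rw [smul_eq_mul, TrivSqZeroExt.snd_mul, op_smul_eq_smul, map_add, map_smul, map_smul,
            hx.2, smul_zero, hN' _ hx.1, add_zero] }
  let P : Ideal (TrivSqZeroExt B N) :=
    { carrier := {x | TrivSqZeroExt.fst x ∈ I ^ s ∧ TrivSqZeroExt.snd x = 0}
      add_mem' := fun {x y} hx hy => by
        refine ⟨?_, ?_⟩
        · rw [TrivSqZeroExt.fst_add]; exact add_mem hx.1 hy.1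
        · rw [TrivSqZeroExt.snd_add, hx.2, hy.2, add_zero]
      zero_mem' := by simp
      smul_mem' := fun c x hx => by
        refine ⟨?_, ?_⟩
        · rw [smul_eq_mul, TrivSqZeroExt.fst_mul]; exact Ideal.mul_mem_left _ _ hx.1
        · rw [smul_eq_mul, TrivSqZeroExt.snd_mul, op_smul_eq_smul, hx.2, smul_zero, hN _ hx.1,
            add_zero] }
  let E := (TrivSqZeroExt B N) ⧸ P
  let q : (TrivSqZeroExt B N) →+* E := Ideal.Quotient.mk P
  let JE : Ideal E := P'.map q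
  have hJE : JE ^ 2 = ⊥ := by
    rw [← Ideal.map_pow, Ideal.map_eq_bot_iff_le_ker, Ideal.mk_ker, pow_two]
    refine Ideal.mul_le.2 fun x hx y hy => ?_
    refine ⟨?_, ?_⟩
    · rw [TrivSqZeroExt.fst_mul]; exact Ideal.mul_mem_left _ _ hy.1
    · rw [TrivSqZeroExt.snd_mul, op_smul_eq_smul, hN _ hx.1, hN _ hy.1, add_zero]
  obtain ⟨σ, hσ⟩ := hπ.hasRightInverse
  have heq : ∀ x y : (TrivSqZeroExt B N), TrivSqZeroExt.fst x - TrivSqZeroExt.fst y ∈ I ^ s →
      π (TrivSqZeroExt.snd x) = π (TrivSqZeroExt.snd y) →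
      Ideal.Quotient.mk JE (q x) = Ideal.Quotient.mk JE (q y) := fun x y h1 h2 => by
    rw [Ideal.Quotient.eq, ← map_sub]
    refine Ideal.mem_map_of_mem q ⟨?_, ?_⟩
    · rwa [TrivSqZeroExt.fst_sub]
    · rw [TrivSqZeroExt.snd_sub, map_sub, h2, sub_self]
  let t : B → (TrivSqZeroExt B N) := fun b => TrivSqZeroExt.inl b + TrivSqZeroExt.inr (σ (d' b))
  let ψ : B →ₐ[A] E ⧸ JE :=
    { toFun := fun b => Ideal.Quotient.mk JE (q (t b))
      map_one' := by
        rw [← map_one (Ideal.Quotient.mk JE), ← map_one q]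
        exact heq _ _ (by simp [t]) (by simp [t, hσ _, TrivSqZeroExt.snd_one, TrivSqZeroExt.fst_one])
      map_zero' := by
        rw [← map_zero (Ideal.Quotient.mk JE), ← map_zero q]
        exact heq _ _ (by simp [t]) (by simp [t, hσ _, TrivSqZeroExt.snd_one, TrivSqZeroExt.fst_one])
      map_add' := fun a b => by
        rw [← map_add, ← map_add]
        exact heq _ _ (by simp [t]) (by simp [t, hσ _, TrivSqZeroExt.snd_one, TrivSqZeroExt.fst_one])
      map_mul' := fun a b => by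
        rw [← map_mul, ← map_mul]
        exact heq _ _ (by simp [t]) (by simp [t, hσ _, map_add, map_smul])
      commutes' := fun a => by
        change _ = Ideal.Quotient.mk JE (q (algebraMap A (TrivSqZeroExt B N) a))
        exact heq _ _ (by simp [t, TrivSqZeroExt.algebraMap_eq_inl'])
          (by simp [t, hσ _, TrivSqZeroExt.algebraMap_eq_inl']) }
  obtain ⟨χ, hχ⟩ := hB E JE hJE ψ ⟨s + s, fun x hx => by
    rw [pow_add] at hx
    have hx0 : x ∈ I ^ s ∧ d' x = 0 := by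
      refine Submodule.mul_induction_on hx (fun a ha b hb => ?_) fun a b ha hb => ?_
      · exact ⟨Ideal.mul_mem_right _ _ ha, by rw [Derivation.leibniz, hN' a ha, hN' b hb, add_zero]⟩
      · exact ⟨add_mem ha.1 hb.1, by rw [map_add, ha.2, hb.2, add_zero]⟩
    change Ideal.Quotient.mk JE (q (t x)) = 0
    rw [← map_zero (Ideal.Quotient.mk JE), ← map_zero q]
    exact heq _ _ (by simp [t, hx0.1]) (by simp [t, hσ _, hx0.2])⟩
  have hex : ∀ b, ∃ n : N, χ b = q (TrivSqZeroExt.inl b + TrivSqZeroExt.inr n) ∧ π n = d' b := by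
    intro b
    obtain ⟨r, hr⟩ := Ideal.Quotient.mk_surjective (χ b)
    have h1 : χ b - q (t b) ∈ JE := Ideal.Quotient.eq.1 (AlgHom.congr_fun hχ b)
    obtain ⟨p, hp, hp'⟩ := (Ideal.mem_map_iff_of_surjective q Ideal.Quotient.mk_surjective).1 h1
    rw [← hr, ← map_sub] at hp'
    have h2 := Ideal.Quotient.eq.1 hp'
    refine ⟨TrivSqZeroExt.snd r, ?_, ?_⟩
    · rw [← hr]
      refine Ideal.Quotient.eq.2 ⟨?_, by simp⟩
      have := sub_mem hp.1 h2.1
      simpa [t] using this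
    · have := h2.2
      simp [t] at this
      have h3 := congrArg π (sub_eq_zero.1 this)
      rw [hp.2, map_sub, hσ] at h3
      exact sub_eq_zero.1 h3.symm
  choose δ hδ hπδ using hex
  have huniq : ∀ (b : B) (n : N), χ b = q (TrivSqZeroExt.inl b + TrivSqZeroExt.inr n) → δ b = n := by
    intro b n h
    have := (Ideal.Quotient.eq.1 ((hδ b).symm.trans h)).2
    simpa [sub_eq_zero] using this
  refine ⟨Derivation.mk' { toFun := δ, map_add' := fun a b => ?_, map_smul' := fun c b => ?_ }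
    (fun a b => ?_), hπδ⟩
  · refine huniq _ _ ?_
    rw [map_add, hδ, hδ, ← map_add]
    congr 1
    ext <;> simp
  · refine huniq _ _ ?_
    rw [map_smul, hδ, RingHom.id_apply]
    change c • Ideal.Quotient.mkₐ A P _ = Ideal.Quotient.mkₐ A P _
    rw [← map_smul]
    congr 1
    ext <;> simp
  · refine huniq _ _ ?_
    rw [map_mul, hδ, hδ, ← map_mul]
    congr 1
    ext <;> simp

/-- Extension of linear maps on an ideal to derivations, by devissage along powers of `Q'`. -/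
theorem exists_derivation_extending {I : Ideal B} (hB : CAlgX.IsAdicFormallySmooth A B I)
    (Q' : Ideal B) (n : ℕ) (hI : I ^ n ≤ Q') (K : Ideal B)
    (hext : ∀ (N : Type u) [AddCommGroup N] [Module B N] [Module A N] [IsScalarTower A B N],
      (∀ b ∈ Q', ∀ y : N, b • y = 0) → (∀ b ∈ K, ∀ y : N, b • y = 0) →
        ∀ φ : K →ₗ[B] N, ∃ d : Derivation A B N, ∀ x : K, d x = φ x) (j : ℕ) :
    ∀ (N : Type u) [AddCommGroup N] [Module B N] [Module A N] [IsScalarTower A B N],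
      (∀ b ∈ Q' ^ j, ∀ y : N, b • y = 0) → (∀ b ∈ K, ∀ y : N, b • y = 0) →
        ∀ φ : K →ₗ[B] N, ∃ d : Derivation A B N, ∀ x : K, d x = φ x := by
  induction j with
  | zero =>
    intro N _ _ _ _ hj _ φ
    refine ⟨0, fun x => ?_⟩
    have h := hj 1 (by simp) (φ x)
    rw [one_smul] at h
    simp [h]
  | succ j ih =>
    intro N _ _ _ _ hj hK φ
    let S : Submodule B N := Q' • ⊤
    have hS : ∀ b ∈ Q', ∀ y : N ⧸ S, b • y = 0 := fun b hb y => by
      obtain ⟨y, rfl⟩ := S.mkQ_surjective y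
      rw [← map_smul, Submodule.mkQ_apply, Submodule.Quotient.mk_eq_zero]
      exact Submodule.smul_mem_smul hb trivial
    have hKq : ∀ b ∈ K, ∀ y : N ⧸ S, b • y = 0 := fun b hb y => by
      obtain ⟨y, rfl⟩ := S.mkQ_surjective y
      rw [← map_smul, hK b hb, map_zero]
    obtain ⟨d', hd'⟩ := hext (N ⧸ S) hS hKq (S.mkQ ∘ₗ φ)
    have hIs : ∀ b ∈ I ^ (n * (j + 1)), ∀ y : N, b • y = 0 := fun b hb =>
      hj b (by rw [pow_mul] at hb; exact Ideal.pow_right_mono hI _ hb)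
    obtain ⟨d, hd⟩ := lift_derivation hB _ hIs S.mkQ S.mkQ_surjective d'
    have hmem : ∀ x : K, φ x - d x ∈ S := fun x => by
      rw [← Submodule.Quotient.mk_eq_zero, ← Submodule.mkQ_apply, map_sub, hd, hd',
        LinearMap.comp_apply, sub_self]
    let φ' : K →ₗ[B] S :=
      { toFun := fun x => ⟨φ x - d x, hmem x⟩
        map_add' := fun x y => Subtype.ext <| by
          simp only [map_add, Submodule.coe_add, Submodule.coe_sub]; abel
        map_smul' := fun b x => Subtype.ext <| by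
          simp only [map_smul, SetLike.val_smul, RingHom.id_apply, smul_eq_mul, Derivation.leibniz,
            hK _ x.2, add_zero, smul_sub] }
    have hSj : ∀ b ∈ Q' ^ j, ∀ y : S, b • y = 0 := by
      intro b hb y
      refine Subtype.ext ?_
      rw [SetLike.val_smul, ZeroMemClass.coe_zero]
      refine Submodule.smul_induction_on (p := fun z => b • z = 0) y.2 (fun a ha z _ => ?_)
        fun z z' hz hz' => by rw [smul_add, hz, hz', add_zero]
      rw [smul_smul]
      exact hj _ (pow_succ Q' j ▸ Ideal.mul_mem_mul hb ha) z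
    obtain ⟨e, he⟩ := ih S hSj (fun b hb y => Subtype.ext (hK b hb y)) φ'
    refine ⟨d + S.subtype.compDer e, fun x => ?_⟩
    change d x + ((e x : S) : N) = φ x
    rw [he x]
    exact add_sub_cancel _ _

/-- From a left inverse of the reduced conormal map to extensions of linear maps to derivations. -/
theorem hext_of_left_inverse (J : Ideal B) (Q : Ideal (B ⧸ J))
    (g : ((B ⧸ J) ⧸ Q) ⊗[B] ((B ⧸ J) ⊗[B] Ω[B⁄A]) →ₗ[(B ⧸ J) ⧸ Q]
          ((B ⧸ J) ⧸ Q) ⊗[B] (RingHom.ker (algebraMap B (B ⧸ J))).Cotangent)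
    (hg : g ∘ₗ LinearMap.baseChange ((B ⧸ J) ⧸ Q) (KaehlerDifferential.kerCotangentToTensor A B (B ⧸ J)) =
          LinearMap.id)
    (N : Type u) [AddCommGroup N] [Module B N] [Module A N] [IsScalarTower A B N]
    (hQN : ∀ b ∈ Q.comap (algebraMap B (B ⧸ J)), ∀ y : N, b • y = 0)
    (hKN : ∀ b ∈ RingHom.ker (algebraMap B (B ⧸ J)), ∀ y : N, b • y = 0)
    (φ : RingHom.ker (algebraMap B (B ⧸ J)) →ₗ[B] N) :
    ∃ d : Derivation A B N, ∀ x : RingHom.ker (algebraMap B (B ⧸ J)), d x = φ x := by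
  let K := RingHom.ker (algebraMap B (B ⧸ J))
  let φc : K.Cotangent →ₗ[B] N := Submodule.liftQ _ φ <| Submodule.smul_le.2 fun a ha y _ => by
    rw [LinearMap.mem_ker, map_smul, hKN a ha]
  let μ : B →ₗ[B] (B ⧸ J) ⧸ Q := Algebra.linearMap B _
  have hμ : Function.Surjective μ :=
    (Ideal.Quotient.mk_surjective.comp Ideal.Quotient.mk_surjective :
      Function.Surjective (Ideal.Quotient.mk Q ∘ Ideal.Quotient.mk J))
  have hker : LinearMap.ker μ ≤ LinearMap.ker (LinearMap.toSpanSingleton B _ φc) := fun b hb => by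
    rw [LinearMap.mem_ker, LinearMap.toSpanSingleton_apply]
    refine LinearMap.ext fun y => hQN b ?_ _
    rw [Ideal.mem_comap, ← Ideal.Quotient.eq_zero_iff_mem]
    exact hb
  let bil := (LinearMap.ker μ).liftQ _ hker ∘ₗ (μ.quotKerEquivOfSurjective hμ).symm.toLinearMap
  have hbil : bil 1 = φc := by
    have h1 : (μ.quotKerEquivOfSurjective hμ).symm 1 = Submodule.Quotient.mk 1 := by
      rw [LinearEquiv.symm_apply_eq]
      exact (map_one (algebraMap B ((B ⧸ J) ⧸ Q))).symm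
    change (LinearMap.ker μ).liftQ _ hker ((μ.quotKerEquivOfSurjective hμ).symm 1) = φc
    rw [h1]
    exact one_smul B φc
  let h : ((B ⧸ J) ⧸ Q) ⊗[B] K.Cotangent →ₗ[B] N := TensorProduct.lift bil
  let ι : Ω[B⁄A] →ₗ[B] ((B ⧸ J) ⧸ Q) ⊗[B] ((B ⧸ J) ⊗[B] Ω[B⁄A]) :=
    (TensorProduct.mk B _ _ 1) ∘ₗ (TensorProduct.mk B (B ⧸ J) (Ω[B⁄A]) 1)
  refine ⟨(h ∘ₗ g.restrictScalars B ∘ₗ ι).compDer (KaehlerDifferential.D A B), fun x => ?_⟩
  change h (g (1 ⊗ₜ (1 ⊗ₜ KaehlerDifferential.D A B x))) = φ x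
  rw [← KaehlerDifferential.kerCotangentToTensor_toCotangent, ← LinearMap.baseChange_tmul,
    ← LinearMap.comp_apply, hg, LinearMap.id_apply, TensorProduct.lift.tmul, hbil]
  rfl

theorem formallySmooth_of_left_inverse {I : Ideal B} (hB : CAlgX.IsAdicFormallySmooth A B I)
    (J : Ideal B) (Q : Ideal (B ⧸ J)) (n : ℕ) (hQ : (I.map (Ideal.Quotient.mk J)) ^ n ≤ Q)
    (m : ℕ) (hQ' : Q ^ m ≤ I.map (Ideal.Quotient.mk J))
    (g : ((B ⧸ J) ⧸ Q) ⊗[B] ((B ⧸ J) ⊗[B] Ω[B⁄A]) →ₗ[(B ⧸ J) ⧸ Q]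
          ((B ⧸ J) ⧸ Q) ⊗[B] (RingHom.ker (algebraMap B (B ⧸ J))).Cotangent)
    (hg : g ∘ₗ LinearMap.baseChange ((B ⧸ J) ⧸ Q) (KaehlerDifferential.kerCotangentToTensor A B (B ⧸ J)) =
          LinearMap.id) :
    CAlgX.IsAdicFormallySmooth A (B ⧸ J) (I.map (Ideal.Quotient.mk J)) := by
  intro D _ _ Nid hNid ψ hψ
  obtain ⟨k, hk⟩ := hψ
  obtain ⟨χ, hχ⟩ := hB D Nid hNid (ψ.comp (Ideal.Quotient.mkₐ A J)) ⟨k, fun x hx => by
    refine hk _ ?_
    rw [← Ideal.map_pow]
    exact Ideal.mem_map_of_mem _ hx⟩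
  letI : Algebra B D := χ.toRingHom.toAlgebra
  have : IsScalarTower A B D := IsScalarTower.of_algebraMap_eq fun a => (χ.commutes a).symm
  let Q' := Q.comap (algebraMap B (B ⧸ J))
  let K := RingHom.ker (algebraMap B (B ⧸ J))
  have hχ' : ∀ b, Ideal.Quotient.mk Nid (χ b) = ψ (Ideal.Quotient.mk J b) := AlgHom.congr_fun hχ
  have hkill : ∀ b, ψ (Ideal.Quotient.mk J b) = 0 → ∀ y : Nid, b • y = 0 := fun b hb y => by
    refine Subtype.ext ?_
    have h1 : χ b ∈ Nid := by rw [← Ideal.Quotient.eq_zero_iff_mem, hχ', hb]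
    have h2 := Ideal.mul_mem_mul h1 y.2
    rw [← pow_two, hNid] at h2
    exact h2
  have hKmem : ∀ x : K, ψ (Ideal.Quotient.mk J x) = 0 := fun x => by
    rw [show Ideal.Quotient.mk J (x : B) = 0 from RingHom.mem_ker.1 x.2, map_zero]
  let φ : K →ₗ[B] Nid :=
    { toFun := fun x => ⟨χ x, by rw [← Ideal.Quotient.eq_zero_iff_mem, hχ', hKmem]⟩
      map_add' := fun x y => Subtype.ext (map_add χ _ _)
      map_smul' := fun b x => Subtype.ext (map_mul χ _ _) }
  have hIQ : I ^ n ≤ Q' := by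
    refine le_trans ?_ (Ideal.comap_mono hQ)
    rw [← Ideal.map_pow]
    exact Ideal.le_comap_map
  obtain ⟨d, hd⟩ := exists_derivation_extending hB Q' n hIQ K
    (fun N _ _ _ _ h1 h2 => hext_of_left_inverse J Q g hg N h1 h2) (m * k) Nid
    (fun b hb => hkill b <| by
      refine hk _ ?_
      have h1 : Ideal.Quotient.mk J b ∈ (Q'.map (algebraMap B (B ⧸ J))) ^ (m * k) := by
        rw [← Ideal.map_pow]
        exact Ideal.mem_map_of_mem _ hb
      exact Ideal.pow_right_mono hQ' k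
        ((pow_mul Q m k).le (Ideal.pow_right_mono Ideal.map_comap_le _ h1)))
    (fun b hb => hkill b (hKmem ⟨b, hb⟩)) φ
  have hdd : ∀ a b : B, ((d a : Nid) : D) * (d b : Nid) = 0 := fun a b => by
    have h2 := Ideal.mul_mem_mul (d a).2 (d b).2
    rw [← pow_two, hNid] at h2
    exact h2
  let ξ : B →ₐ[A] D := AlgHom.ofLinearMap
    (χ.toLinearMap - (Nid.subtype.restrictScalars A) ∘ₗ d.toLinearMap)
    (by
      change χ 1 - ((d 1 : Nid) : D) = 1
      rw [map_one, d.map_one_eq_zero, ZeroMemClass.coe_zero, sub_zero])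
    (fun a b => by
      change χ (a * b) - ((d (a * b) : Nid) : D) = (χ a - (d a : Nid)) * (χ b - (d b : Nid))
      rw [d.leibniz, Submodule.coe_add]
      change χ (a * b) - (χ a * (d b : Nid) + χ b * (d a : Nid)) = _
      rw [map_mul]
      linear_combination -(hdd a b))
  refine ⟨Ideal.Quotient.liftₐ J ξ fun x hx => ?_, AlgHom.ext fun c => ?_⟩
  · have hxK : x ∈ K := RingHom.mem_ker.2 (Ideal.Quotient.eq_zero_iff_mem.2 hx)
    change χ x - ((d x : Nid) : D) = 0
    rw [hd ⟨x, hxK⟩]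
    exact sub_self _
  · obtain ⟨b, rfl⟩ := Ideal.Quotient.mk_surjective c
    change Ideal.Quotient.mk Nid (χ b - ((d b : Nid) : D)) = _
    rw [map_sub, hχ', Ideal.Quotient.eq_zero_iff_mem.2 (d b).2, sub_zero]

theorem liftBaseChange_rTensor_tmul {S R M T : Type u} [CommRing S] [CommRing R] [Algebra B S]
    [Algebra B R] [Algebra S R] [IsScalarTower B S R] [AddCommGroup M] [Module B M] [AddCommGroup T]
    [Module B T] [Module R T] [IsScalarTower B R T] (φ : M →ₗ[B] T) (c : R) (ω : M) :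
    LinearMap.liftBaseChange R ((LinearMap.liftBaseChange R φ).restrictScalars B ∘ₗ
      LinearMap.rTensor M (IsScalarTower.toAlgHom B S R).toLinearMap) (c ⊗ₜ ((1 : S) ⊗ₜ ω)) = c • φ ω := by
  simp

theorem left_inverse_of_formallySmooth [IsNoetherianRing B] (I J : Ideal B) (Q : Ideal (B ⧸ J))
    (n : ℕ) (hQ : (I.map (Ideal.Quotient.mk J)) ^ n ≤ Q)
    (hC : CAlgX.IsAdicFormallySmooth A (B ⧸ J) (I.map (Ideal.Quotient.mk J))) :
    ∃ g : ((B ⧸ J) ⧸ Q) ⊗[B] ((B ⧸ J) ⊗[B] Ω[B⁄A]) →ₗ[(B ⧸ J) ⧸ Q]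
          ((B ⧸ J) ⧸ Q) ⊗[B] (RingHom.ker (algebraMap B (B ⧸ J))).Cotangent,
        g ∘ₗ LinearMap.baseChange ((B ⧸ J) ⧸ Q) (KaehlerDifferential.kerCotangentToTensor A B (B ⧸ J)) =
          LinearMap.id := by
  let Q' := Q.comap (algebraMap B (B ⧸ J))
  let K := RingHom.ker (algebraMap B (B ⧸ J))
  have hIQ : I ^ n ≤ Q' := by
    refine le_trans ?_ (Ideal.comap_mono hQ)
    rw [← Ideal.map_pow]
    exact Ideal.le_comap_map
  obtain ⟨k, hk⟩ : ∃ k, I ^ k ⊓ K ≤ Q' * K := by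
    obtain ⟨c, hc⟩ := I.exists_pow_inf_eq_pow_smul (K : Submodule B B)
    refine ⟨c + n, ?_⟩
    have := hc (c + n) (Nat.le_add_right c n)
    rw [smul_eq_mul, Ideal.mul_top, Nat.add_sub_cancel_left] at this
    rw [this, smul_eq_mul]
    exact Ideal.mul_mono hIQ inf_le_right
  let R : Ideal B := Q' * K + I ^ k
  let Nid : Ideal (B ⧸ R) := K.map (Ideal.Quotient.mk R)
  have hKQ : K ≤ Q' := Ideal.comap_mono bot_le
  have hNid : Nid ^ 2 = ⊥ := by
    rw [← Ideal.map_pow, Ideal.map_eq_bot_iff_le_ker, Ideal.mk_ker, pow_two]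
    exact (Ideal.mul_mono_left hKQ).trans le_sup_left
  let ψ : (B ⧸ J) →ₐ[A] (B ⧸ R) ⧸ Nid :=
    Ideal.Quotient.liftₐ J ((Ideal.Quotient.mkₐ A Nid).comp (Ideal.Quotient.mkₐ A R)) fun x hx =>
      Ideal.Quotient.eq_zero_iff_mem.2 (Ideal.mem_map_of_mem _
        (RingHom.mem_ker.2 (Ideal.Quotient.eq_zero_iff_mem.2 hx)))
  obtain ⟨χ, hχ⟩ := hC (B ⧸ R) Nid hNid ψ ⟨k, fun x hx => by
    rw [← Ideal.map_pow, Ideal.mem_map_iff_of_surjective _ Ideal.Quotient.mk_surjective] at hx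
    obtain ⟨b, hb, rfl⟩ := hx
    change Ideal.Quotient.mk Nid (Ideal.Quotient.mk R b) = 0
    rw [Ideal.Quotient.eq_zero_iff_mem.2 (show b ∈ R from le_sup_right (a := Q' * K) hb), map_zero]⟩
  have hdiff : ∀ b, Ideal.Quotient.mk R b - χ (Ideal.Quotient.mk J b) ∈ Nid := fun b =>
    Ideal.Quotient.eq.1 (AlgHom.congr_fun hχ (Ideal.Quotient.mk J b)).symm
  let d : Derivation A B Nid := Derivation.mk'
    { toFun := fun b => ⟨Ideal.Quotient.mk R b - χ (Ideal.Quotient.mk J b), hdiff b⟩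
      map_add' := fun a b => Subtype.ext <| by simp only [map_add, Submodule.coe_add]; ring
      map_smul' := fun a b => Subtype.ext <| by
        simp only [RingHom.id_apply, Submodule.coe_smul_of_tower, smul_sub]
        rw [← Ideal.Quotient.mkₐ_eq_mk A R, ← Ideal.Quotient.mkₐ_eq_mk A J, map_smul, map_smul,
          map_smul] }
    (fun a b => Subtype.ext <| by
      change Ideal.Quotient.mk R (a * b) - χ (Ideal.Quotient.mk J (a * b)) =
        Ideal.Quotient.mk R a * (Ideal.Quotient.mk R b - χ (Ideal.Quotient.mk J b)) +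
        Ideal.Quotient.mk R b * (Ideal.Quotient.mk R a - χ (Ideal.Quotient.mk J a))
      have h2 := Ideal.mul_mem_mul (hdiff b) (hdiff a)
      rw [← pow_two, hNid, Ideal.mem_bot] at h2
      rw [map_mul, map_mul, map_mul]
      linear_combination -h2)
  let f : K →ₗ[B] Nid :=
    { toFun := fun x => ⟨Ideal.Quotient.mk R x, Ideal.mem_map_of_mem _ x.2⟩
      map_add' := fun x y => Subtype.ext (map_add _ _ _)
      map_smul' := fun b x => Subtype.ext (map_mul _ _ _) }
  have hf : Function.Surjective f := fun y => by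
    obtain ⟨x, hx, hxy⟩ := (Ideal.mem_map_iff_of_surjective _ Ideal.Quotient.mk_surjective).1 y.2
    exact ⟨⟨x, hx⟩, Subtype.ext hxy⟩
  let Λ : K →ₗ[B] ((B ⧸ J) ⧸ Q) ⊗[B] K.Cotangent := (TensorProduct.mk B _ _ 1) ∘ₗ K.toCotangent
  have hle : LinearMap.ker f ≤ LinearMap.ker Λ := by
    intro x hx
    have hxR : (x : B) ∈ R := Ideal.Quotient.eq_zero_iff_mem.1 (congrArg Subtype.val hx)
    obtain ⟨y, hy, z, hz, hyz⟩ := Submodule.mem_sup.1 hxR
    have hzK : z ∈ K := by
      rw [show z = (x : B) - y by rw [← hyz]; ring]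
      exact sub_mem x.2 (Ideal.mul_le_right hy)
    have hxmem : (x : B) ∈ Q' * K := hyz ▸ add_mem hy (hk ⟨hz, hzK⟩)
    have hmul : Q' * K ≤ (LinearMap.ker Λ).map K.subtype := by
      refine Ideal.mul_le.2 fun q hq r hr => ?_
      refine ⟨q • ⟨r, hr⟩, ?_, rfl⟩
      change ((1 : (B ⧸ J) ⧸ Q) ⊗ₜ[B] K.toCotangent (q • ⟨r, hr⟩)) = 0
      rw [map_smul, ← TensorProduct.smul_tmul]
      have : algebraMap B ((B ⧸ J) ⧸ Q) q = 0 := Ideal.Quotient.eq_zero_iff_mem.2 hq
      rw [show q • (1 : (B ⧸ J) ⧸ Q) = algebraMap B ((B ⧸ J) ⧸ Q) q from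
        (Algebra.algebraMap_eq_smul_one q).symm, this, TensorProduct.zero_tmul]
    obtain ⟨x', hx', hxx⟩ := hmul hxmem
    rwa [Subtype.ext hxx] at hx'
  let l : Nid →ₗ[B] ((B ⧸ J) ⧸ Q) ⊗[B] K.Cotangent :=
    (LinearMap.ker f).liftQ Λ hle ∘ₗ (f.quotKerEquivOfSurjective hf).symm.toLinearMap
  have hl : ∀ x, l (f x) = Λ x := fun x => by
    have h1 : (f.quotKerEquivOfSurjective hf).symm (f x) = Submodule.Quotient.mk x := by
      rw [LinearEquiv.symm_apply_eq]
      rfl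
    change (LinearMap.ker f).liftQ Λ hle ((f.quotKerEquivOfSurjective hf).symm (f x)) = _
    rw [h1]
    rfl
  let φ := (l.compDer d).liftKaehlerDifferential
  refine ⟨LinearMap.liftBaseChange ((B ⧸ J) ⧸ Q) ((LinearMap.liftBaseChange ((B ⧸ J) ⧸ Q) φ).restrictScalars B ∘ₗ
    LinearMap.rTensor (Ω[B⁄A]) (IsScalarTower.toAlgHom B (B ⧸ J) ((B ⧸ J) ⧸ Q)).toLinearMap), ?_⟩
  refine LinearMap.ext fun w => ?_
  induction w using TensorProduct.induction_on with
  | zero => simp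
  | add a b ha hb => rw [map_add, map_add, ha, hb]
  | tmul c y =>
    obtain ⟨x, rfl⟩ := K.toCotangent_surjective y
    have hdx : d (x : B) = f x := Subtype.ext <| by
      change Ideal.Quotient.mk R (x : B) - χ (Ideal.Quotient.mk J x) = _
      rw [show Ideal.Quotient.mk J (x : B) = 0 from RingHom.mem_ker.1 x.2, map_zero, sub_zero]
      rfl
    rw [LinearMap.comp_apply, LinearMap.baseChange_tmul, LinearMap.id_apply,
      KaehlerDifferential.kerCotangentToTensor_toCotangent]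
    refine (liftBaseChange_rTensor_tmul φ c _).trans ?_
    rw [Derivation.liftKaehlerDifferential_comp_D]
    change c • l (d (x : B)) = _
    rw [hdx, hl]
    change c • ((1 : (B ⧸ J) ⧸ Q) ⊗ₜ[B] K.toCotangent x) = _
    rw [TensorProduct.smul_tmul', smul_eq_mul, mul_one]

end Groth.Agent.FSQuot14
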